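import Mathlib
import Cfsg.Agent.Lib.Ord.Count
import Cfsg.Agent.Lib.Ord.CharAux
import Cfsg.Agent.Lib.Ord.Sec
import Cfsg.Agent.Lib.BS.ClassMul
import Cfsg.Agent.S4488

/-! The principal `3`-block of a simple group with Sylow `3`-subgroup of order `3`, and helpers on
integer valued characters. -/

set_option autoImplicit false

open Cfsg H17.Ord

namespace H23.Q15

/-- the two nontrivial characters of the principal `3`-block -/
structure Pair (G : Type*) [Group G] (n : ℕ) where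
  χ : IrrCharacter G
  ψ : IrrCharacter G
  r : G → ℤ
  s : G → ℤ
  hr : ∀ g, (χ : G → ℂ) g = r g
  hs : ∀ g, (ψ : G → ℂ) g = s g
  dχ : dg χ = n
  dψ : dg ψ = n + 1
  two : 2 ≤ n
  md : n % 3 = 1
  sing : ∀ g, 3 ∣ orderOf g → r g = 1 ∧ s g = -1
  reg : ∀ g, ¬ 3 ∣ orderOf g → s g = r g + 1

variable {G : Type*} [Group G] [Finite G]

theorem exists_pair [IsSimpleGroup G] (hna : ∃ a b : G, a * b ≠ b * a) {m : ℕ}
    (hG : Nat.card G = 3 * m) (hm : ¬ 3 ∣ m) : ∃ n, Nonempty (Pair G n) ∧ n ∣ m ∧ n + 1 ∣ m := by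
  classical
  haveI : Fact (Nat.Prime 3) := ⟨Nat.prime_three⟩
  obtain ⟨P, hP⟩ := exists_subgroup_prime (G := G) 3 ⟨m, hG⟩
  obtain ⟨e, k, n, -, -, -, -, -, -, he, hd, ⟨B⟩⟩ := setup hna 3 hG hm P hP
  have he2 : e = 3 - 1 := by have := Nat.le_of_dvd (by norm_num) hd; omega
  obtain ⟨Z, s, hZ, h1, hmem, hs, hv, hrel⟩ := B.full he2
  have key : ∀ x y : IrrCharacter G, x ≠ y → Z.erase (triv G) = {x, y} → s x = 1 → s y = -1 →
      ∃ n, Nonempty (Pair G n) ∧ n ∣ m ∧ n + 1 ∣ m := by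
    intro x y hxy hE sx sy
    have hx : x ∈ Z.erase (triv G) := by rw [hE]; simp
    have hy : y ∈ Z.erase (triv G) := by rw [hE]; simp
    have hxZ := Finset.mem_of_mem_erase hx
    have hyZ := Finset.mem_of_mem_erase hy
    have st : s (triv G) = 1 := by
      have := hs _ h1; rw [dg_triv] at this; omega
    have rel : ∀ g, ¬ 3 ∣ orderOf g → (y : G → ℂ) g = (x : G → ℂ) g + 1 := by
      intro g hg
      have := hrel g hg
      rw [← Finset.add_sum_erase _ _ h1, hE, Finset.sum_pair hxy, st, sx, sy, triv_apply] at this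
      push_cast at this
      linear_combination -this
    have hd : dg y = dg x + 1 := by
      have := rel 1 (by simp)
      rw [dg_cast, dg_cast] at this
      exact_mod_cast this
    have hx1 : dg x ≠ 1 := fun h => Finset.ne_of_mem_erase hx (eq_triv_of_dg hna h)
    have hx0 := dg_pos x
    have all : ∀ φ, φ ∈ B.X ∨ φ ∈ B.Y → φ = triv G ∨ φ = x ∨ φ = y := by
      intro φ hφ
      by_cases h : φ = triv G
      · exact Or.inl h
      · have := Finset.mem_erase.2 ⟨h, (hmem φ).2 hφ⟩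
        rw [hE] at this
        simpa [h] using this
    have ix := B.int_of_unique ((hmem x).1 hxZ) (fun φ hφ hd' => by
      rcases all φ hφ with rfl | rfl | rfl
      · rw [dg_triv] at hd'; omega
      · rfl
      · omega)
    have iy := B.int_of_unique ((hmem y).1 hyZ) (fun φ hφ hd' => by
      rcases all φ hφ with rfl | rfl | rfl
      · rw [dg_triv] at hd'; omega
      · omega
      · rfl)
    choose r hr using ix
    choose t ht using iy
    refine ⟨dg x, ⟨⟨x, y, r, t, hr, ht, rfl, hd, by omega, by have := hs x hxZ; omega,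
      fun g hg => ?_, fun g hg => ?_⟩⟩, B.dvd_cof hG ((hmem x).1 hxZ),
      hd ▸ B.dvd_cof hG ((hmem y).1 hyZ)⟩
    · have a1 := hv x hxZ g hg
      have a2 := hv y hyZ g hg
      rw [hr, sx] at a1
      rw [ht, sy] at a2
      exact ⟨by exact_mod_cast a1, by exact_mod_cast a2⟩
    · have := rel g hg
      rw [hr, ht] at this
      exact_mod_cast this
  obtain ⟨x, y, hxy, hE⟩ := Finset.card_eq_two.1
    (show (Z.erase (triv G)).card = 2 by rw [Finset.card_erase_of_mem h1, hZ])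
  have hx : x ∈ Z := Finset.mem_of_mem_erase (by rw [hE]; simp)
  have hy : y ∈ Z := Finset.mem_of_mem_erase (by rw [hE]; simp)
  have st : s (triv G) = 1 := by
    have := hs _ h1; rw [dg_triv] at this; omega
  have h0 := hrel 1 (by simp)
  rw [← Finset.add_sum_erase _ _ h1, hE, Finset.sum_pair hxy, st, triv_apply, dg_cast, dg_cast] at h0
  have h0' : (1 : ℤ) * 1 + (s x * dg x + s y * dg y) = 0 := by exact_mod_cast h0
  have := dg_pos x
  have := dg_pos y
  rcases hs x hx with ⟨a, -⟩ | ⟨a, -⟩ <;> rcases hs y hy with ⟨b, -⟩ | ⟨b, -⟩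
  · rw [a, b] at h0'; omega
  · exact key x y hxy hE a b
  · exact key y x hxy.symm (by rw [hE, Finset.pair_comm]) b a
  · rw [a, b] at h0'; omega

section
variable {χ : IrrCharacter G} {r : G → ℤ} (hr : ∀ g, (χ : G → ℂ) g = r g)
include hr

theorem schur [IsSimpleGroup G] (h1 : dg χ ≠ 1) {p : ℕ} (hp : p.Prime) :
    (Nat.card G).factorization p ≤ ∑ i ∈ Finset.range (dg χ + 1), dg χ / ((p - 1) * p ^ i) :=
  Cfsg.Agent.S4488.result p hp χ (irr_chr χ) (fun g hg => eq_one_of_apply_eq (χ := χ)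
    (fun h => h1 (h ▸ dg_triv)) (hg.trans (dg_cast χ)))
    ⟨1, one_pos, hp.one_lt.ne' ∘ Nat.dvd_one.1, fun g => by rw [hr]; exact intCast_mem _ _⟩ _ rfl

theorem schur_le [IsSimpleGroup G] (h1 : dg χ ≠ 1) {p : ℕ} (hp : p.Prime) (h : dg χ < (p - 1) * p) :
    (Nat.card G).factorization p ≤ dg χ / (p - 1) := by
  have := schur hr h1 hp
  rw [Finset.sum_range_succ', Finset.sum_eq_zero (fun i _ => Nat.div_eq_of_lt (h.trans_le
    (Nat.mul_le_mul_left _ (Nat.le_self_pow (by omega) p))))] at this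
  simpa using this

theorem r_one : r 1 = dg χ := by
  have := hr 1
  rw [dg_cast] at this
  exact_mod_cast this.symm

theorem abs_le_dg (g : G) : |r g| ≤ dg χ := by
  have := H6.char_norm_le (irr_chr χ) g
  rw [hr, dg_cast, Complex.norm_intCast, Complex.norm_natCast] at this
  exact_mod_cast this

theorem abs_lt_dg [IsSimpleGroup G] (hna : ∃ a b : G, a * b ≠ b * a) (h1 : dg χ ≠ 1) {g : G}
    (hg : g ≠ 1) : -(dg χ : ℤ) < r g ∧ r g < dg χ := by
  rw [← abs_lt]
  refine (abs_le_dg hr g).lt_of_ne fun h => hg (eq_one_of_norm_eq hna (χ := χ)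
    (fun h => h1 (h ▸ dg_triv)) ?_)
  rw [hr, Complex.norm_intCast]
  exact_mod_cast h

theorem r_pow {g : G} {k : ℕ} (hk : k.Coprime (orderOf g)) : r (g ^ k) = r g := by
  obtain ⟨σ, hσ⟩ := H8.exists_ringEquiv_pow (orderOf_pos g) hk
  have := H8.IsCharacter_map_eq_pow (irr_chr χ) (σ : ℂ →+* ℂ) (orderOf_pos g) hσ
    (pow_orderOf_eq_one g)
  rw [hr, hr, map_intCast] at this
  exact_mod_cast this.symm

theorem r_mod {p k : ℕ} (hp : p.Prime) {g : G} (hg : g ^ p ^ k = 1) : (dg χ : ℤ) ≡ r g [ZMOD p] :=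
  modEq_of_val (irr_chr χ) hp hg (hr g)

/-- the value at a `p`-regular element commuting with an element of order `p` -/
theorem cross {p : ℕ} (hp : p.Prime) {x z : G} (hx : orderOf x = p) (hc : Commute x z)
    (hz : ¬ p ∣ orderOf z) : p ∣ orderOf (x * z) ∧ r z ≡ r (x * z) [ZMOD p] := by
  have hco : Nat.Coprime p (orderOf z) := (hp.coprime_iff_not_dvd).2 hz
  refine ⟨by rw [hc.orderOf_mul_eq_mul_orderOf_of_coprime (hx ▸ hco), hx]; exact Dvd.intro _ rfl, ?_⟩
  have := modEq_pow (irr_chr χ) (k := 1) hp (hr (x * z)) (hr _)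
  rwa [pow_one, hc.mul_pow, ← hx, pow_orderOf_eq_one, one_mul, hx, r_pow hr hco] at this

theorem sub_sum (R : Subgroup G) [Fintype R] : ∃ k : ℕ, ∑ x : R, r x = Nat.card R * k := by
  obtain ⟨k, hk⟩ := H6.char_inner_nat (H6.isCharacter_restrict R (irr_chr χ)) H6.isCharacter_one
  refine ⟨k, ?_⟩
  have h0 : (Nat.card R : ℂ) ≠ 0 := by exact_mod_cast Nat.card_pos.ne'
  simp only [classInner, map_one, mul_one, hr] at hk
  have : ((∑ x : R, r x : ℤ) : ℂ) = Nat.card R * k := by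
    rw [← hk]; push_cast; field_simp
  exact_mod_cast this

theorem cyc_le (y : G) (f : ℕ → ℤ) (h : ∀ i < orderOf y, r (y ^ i) ≤ f i) :
    0 ≤ ∑ i ∈ Finset.range (orderOf y), f i := by
  classical
  haveI := Fintype.ofFinite (Subgroup.zpowers y)
  obtain ⟨k, hk⟩ := sub_sum hr (Subgroup.zpowers y)
  rw [← Equiv.sum_comp (finEquivZPowers (isOfFinOrder_of_finite y))] at hk
  refine le_trans ?_ (Finset.sum_le_sum fun i hi => h i (Finset.mem_range.1 hi))
  rw [Finset.sum_range]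
  have : ∑ i : Fin (orderOf y), r (y ^ (i : ℕ)) = Nat.card (Subgroup.zpowers y) * k := hk
  rw [this]; positivity

theorem prime_le {p : ℕ} (hp : p.Prime) {y : G} (hy : orderOf y = p) :
    0 ≤ (dg χ : ℤ) + (p - 1 : ℕ) * r y := by
  have := cyc_le hr y (fun i => if i = 0 then dg χ else r y) (fun i hi => by
    split_ifs with h
    · rw [h, pow_zero, r_one hr]
    · exact (r_pow hr (hy ▸ (Nat.coprime_of_lt_prime h (hy ▸ hi) hp).symm)).le)
  obtain ⟨t, rfl⟩ : ∃ t, p = t + 1 := ⟨p - 1, by have := hp.pos; omega⟩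
  rw [hy, Finset.sum_range_succ'] at this
  simpa [add_comm] using this

end

theorem exists_prime_pow {y : G} (hy : y ≠ 1) :
    ∃ l k : ℕ, l.Prime ∧ l ∣ orderOf y ∧ orderOf (y ^ k) = l := by
  obtain ⟨l, hl, hd⟩ := Nat.exists_prime_and_dvd (fun h => hy (orderOf_eq_one_iff.1 h))
  exact ⟨l, orderOf y / l, hl, hd, orderOf_pow_orderOf_div (orderOf_pos y).ne' hd⟩

variable {p : ℕ} [hp : Fact p.Prime] {P : Subgroup G} {e : ℕ}

theorem selfcent (B : PB G p P e)
    (h : ∀ x z : G, orderOf x = p → Commute x z → (orderOf z).Prime → orderOf z = p) :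
    Subgroup.centralizer (P : Set G) = P := by
  refine B.selfcent_of fun y hy hr => ?_
  by_contra h1
  obtain ⟨l, k, hl, hd, hk⟩ := exists_prime_pow h1
  obtain ⟨x, hx, ho⟩ := B.exists_sing
  have := h x (y ^ k) ho (Commute.pow_right (hy x hx) k) (hk ▸ hl)
  exact hr (by rw [← this, hk]; exact hd)

theorem selfcent_deg [IsSimpleGroup G] (hna : ∃ a b : G, a * b ≠ b * a) (B : PB G p P e)
    {χ : IrrCharacter G} {r : G → ℤ} (hr : ∀ g, (χ : G → ℂ) g = r g) (hd : dg χ = p) :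
    Subgroup.centralizer (P : Set G) = P := by
  refine selfcent B fun x z hx hc hz => ?_
  by_contra hne
  have hz' : ¬ p ∣ orderOf z := fun h => hne ((Nat.prime_dvd_prime_iff_eq hp.out hz).1 h).symm
  obtain ⟨h1, h2⟩ := cross hr hp.out hx hc hz'
  have h3 := van_of_dvd hp.out B.not_sq_dvd (hd ▸ dvd_rfl) h1 (χ := χ)
  rw [hr] at h3
  have h4 : r (x * z) = 0 := by exact_mod_cast h3
  have h5 := abs_lt_dg hr hna (hd ▸ hp.out.one_lt.ne') (g := z)
    (fun h => hz.one_lt.ne' (by rw [h, orderOf_one]))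
  rw [h4] at h2
  rw [hd] at h5
  have h6 : r z = 0 := Int.eq_zero_of_dvd_of_natAbs_lt_natAbs (Int.modEq_zero_iff_dvd.1 h2)
    (by omega)
  have h7 := r_mod hr (k := 1) hz (by rw [pow_one, pow_orderOf_eq_one])
  rw [h6, hd] at h7
  exact hne ((Nat.prime_dvd_prime_iff_eq hz hp.out).1
    (by exact_mod_cast Int.modEq_zero_iff_dvd.1 h7))

theorem two_deg [IsSimpleGroup G] (hna : ∃ a b : G, a * b ≠ b * a) (B : PB G p P 2) (h3 : 3 < p)
    {χ : IrrCharacter G} (h : χ ∈ B.X ∨ χ ∈ B.Y) (h1 : dg χ ≠ 1)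
    (hm : dg χ % p = 1 ∨ dg χ % p = p - 1) : ∃ d, d ∣ Nat.card G ∧
      ((dg χ % p = 1 ∧ d = dg χ + 1) ∨ (dg χ % p = p - 1 ∧ d + 1 = dg χ)) := by
  obtain ⟨φ, -, -, hall, hY⟩ := B.two hna h3
  obtain ⟨θ, hθ⟩ := B.Y_nonempty
  rcases h with h | h
  · rcases hall χ h with rfl | rfl
    · exact absurd dg_triv h1
    · exact ⟨dg θ, dg_dvd θ, (hY θ hθ).1⟩
  · have := B.modY h
    have h4 : p ≠ 4 := fun h => absurd (h ▸ hp.out) (by decide)
    omega

/-- a self-centralizing Sylow subgroup of prime order: the automizer modulo `p` -/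
theorem exists_e [IsSimpleGroup G] (hna : ∃ a b : G, a * b ≠ b * a) (p : ℕ) [hp : Fact p.Prime]
    {m : ℕ} (hG : Nat.card G = p * m) (hm : ¬ p ∣ m) : ∃ (P : Subgroup G) (e : ℕ), 1 < e ∧
      e ∣ p - 1 ∧ Nonempty (PB G p P e) ∧
        (Subgroup.centralizer (P : Set G) = P → m % p = e % p) := by
  obtain ⟨P, hP⟩ := exists_subgroup_prime (G := G) p ⟨m, hG⟩
  obtain ⟨e, k, n, hk, -, -, h1, h2, -, he, hd, hB⟩ := setup hna p hG hm P hP
  refine ⟨P, e, he, hd, hB, fun hC => ?_⟩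
  rw [hC, hP] at hk
  have : k = 1 := by
    have := hp.out.pos
    nlinarith
  rw [← h1, this, one_mul, Nat.mul_mod, h2, one_mul, Nat.mod_mod]

end H23.Q15
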