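import Mathlib
import Cfsg.Agent.Lib.Q15.Three
import Cfsg.Agent.Lib.Q15.Dio

/-! No simple group of order `2 ^ a * 15 * 13 ^ b` has degrees `64, 65` in its principal
`3`-block. -/

set_option autoImplicit false

open Cfsg H17.Ord

namespace H23.Q15

variable {G : Type*} [Group G] [Finite G]

theorem dvd_sum_class [Fintype G] (f : G → ℕ) (hf : ∀ g h, IsConj g h → f g = f h) {d : ℕ}
    (h : ∀ g, f g ≠ 0 → d ∣ (Subgroup.centralizer ({g} : Set G)).index) : d ∣ ∑ g, f g := by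
  classical
  rw [← Finset.sum_fiberwise Finset.univ (fun g => ConjClasses.mk g)]
  refine Finset.dvd_sum fun K _ => ?_
  obtain ⟨g, rfl⟩ := ConjClasses.exists_rep K
  rw [Finset.sum_congr rfl (g := fun _ => f g) (fun x hx => hf x g
    (ConjClasses.mk_eq_mk_iff_isConj.1 (Finset.mem_filter.1 hx).2)), Finset.sum_const, smul_eq_mul]
  by_cases h0 : f g = 0
  · simp [h0]
  refine Dvd.dvd.mul_right ?_ _
  have := h g h0
  rw [← H6.card_isConj_eq_index, Nat.card_eq_fintype_card, Fintype.card_subtype] at this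
  rwa [Finset.filter_congr (fun x _ => ConjClasses.mk_eq_mk_iff_isConj.trans isConj_comm)]

variable [IsSimpleGroup G] (hna : ∃ a b : G, a * b ≠ b * a) (D : Pair G 64)
include hna D

theorem count169 (h13 : 13 ∣ Nat.card G) :
    ¬ ∀ c : G, 3 ∣ orderOf c → 169 ∣ (Subgroup.centralizer ({c} : Set G)).index := by
  classical
  intro hall
  haveI := Fintype.ofFinite G
  haveI : Fact (Nat.Prime 13) := ⟨by norm_num⟩
  obtain ⟨P⟩ : Nonempty (Sylow 13 G) := inferInstance
  haveI : Nontrivial P := (Subgroup.nontrivial_iff_ne_bot _).2 (P.ne_bot_of_dvd_card h13)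
  haveI := P.isPGroup'.center_nontrivial
  obtain ⟨⟨z, hz⟩, hz1⟩ := exists_ne (1 : Subgroup.center P)
  have hy1 : (z : G) ≠ 1 := fun h => hz1 (Subtype.ext (Subtype.ext h))
  have hle : (P : Subgroup G) ≤ Subgroup.centralizer ({(z : G)} : Set G) := fun x hx =>
    Subgroup.mem_centralizer_singleton_iff.2
      (congrArg Subtype.val (Subgroup.mem_center_iff.1 hz ⟨x, hx⟩))
  have hi : ¬ 13 ∣ (Subgroup.centralizer ({(z : G)} : Set G)).index := fun h =>
    P.not_dvd_index (h.trans (Subgroup.index_dvd_of_le hle))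
  have hreg : ¬ 3 ∣ orderOf (z : G) := by
    obtain ⟨k, hk⟩ := (IsPGroup.iff_orderOf.1 P.isPGroup') z
    rw [Subgroup.orderOf_coe, hk]
    exact fun h => absurd (Nat.prime_three.dvd_of_dvd_pow h) (by norm_num)
  generalize (z : G) = y at hy1 hi hreg
  set i := (Subgroup.centralizer ({y} : Set G)).index
  obtain ⟨N, hN⟩ := dvd_sum_class (fun c => if 3 ∣ orderOf c then H31.classCoeff y y c else 0)
    (fun g h hgh => by
      obtain ⟨c, rfl⟩ := isConj_iff.1 hgh
      have h1 : H31.classCoeff y y (c * g * c⁻¹) = H31.classCoeff y y g :=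
        Nat.cast_injective (R := ℂ) (H31.isClassFunction_classCoeff y y g c)
      have h2 : orderOf (c * g * c⁻¹) = orderOf g := (MulAut.conj c).orderOf_eq g
      simp only [h1, h2])
    (d := 169) (fun g hg => hall g (by by_contra h; simp [h] at hg))
  have e1 := H31.sum_classCoeff_mul_irr (triv G).2 y y
  have e2 := H31.sum_classCoeff_mul_irr D.χ.2 y y
  have e3 := H31.sum_classCoeff_mul_irr D.ψ.2 y y
  have v1 : (D.χ : G → ℂ) 1 = 64 := by rw [dg_cast, D.dχ]; norm_num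
  have v2 : (D.ψ : G → ℂ) 1 = 65 := by rw [dg_cast, D.dψ]; norm_num
  have e4 : ∑ c, (H31.classCoeff y y c : ℂ) * (triv G : G → ℂ) c +
      ∑ c, (H31.classCoeff y y c : ℂ) * (D.χ : G → ℂ) c -
      ∑ c, (H31.classCoeff y y c : ℂ) * (D.ψ : G → ℂ) c = 3 * (169 * N : ℕ) := by
    rw [← hN, ← Finset.sum_add_distrib, ← Finset.sum_sub_distrib]
    push_cast
    rw [Finset.mul_sum]
    refine Finset.sum_congr rfl fun c _ => ?_
    rw [triv_apply, D.hr, D.hs]
    split_ifs with h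
    · rw [(D.sing c h).1, (D.sing c h).2]; push_cast; ring
    · rw [D.reg c h]; push_cast; ring
  rw [e1, e2, e3, v1, v2, triv_apply, triv_apply, D.hr, D.hs, D.reg y hreg] at e4
  have e5 : ((i : ℤ) * (64 - D.r y)) ^ 2 = 13 ^ 3 * (960 * N) := by
    have : ((((i : ℤ) * (64 - D.r y)) ^ 2 : ℤ) : ℂ) = ((13 ^ 3 * (960 * N) : ℤ) : ℂ) := by
      push_cast at e4 ⊢
      linear_combination 4160 * e4
    exact_mod_cast this
  have hlt := abs_lt_dg D.hr hna (by rw [D.dχ]; norm_num) hy1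
  rw [D.dχ] at hlt
  have p13 : Prime (13 : ℤ) := Int.prime_iff_natAbs_prime.2 (by norm_num)
  have hi' : ¬ (13 : ℤ) ∣ i := by exact_mod_cast hi
  obtain ⟨t, ht⟩ := (p13.dvd_or_dvd (p13.dvd_of_dvd_pow (n := 2)
    ⟨169 * (960 * N), e5.trans (by ring)⟩)).resolve_left hi'
  have e6 : ((i : ℤ) * t) ^ 2 = 13 * (960 * N) := by
    rw [ht] at e5
    linarith
  have := (p13.dvd_or_dvd (p13.dvd_of_dvd_pow (n := 2) ⟨_, e6⟩)).resolve_left hi'
  omega

theorem no169 {x : G} (hx : orderOf x = 3) (R : Subgroup G) (hR : Nat.card R = 13 ^ 2)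
    (hc : ∀ y ∈ R, Commute x y) : False := by
  classical
  have p13 : Nat.Prime 13 := by norm_num
  have ho : ∀ y ∈ R, orderOf y ∣ 13 ^ 2 := fun y hy => hR ▸ R.orderOf_dvd_natCard hy
  have val : ∀ y ∈ R, y ≠ 1 → D.r y = 25 ∨ D.r y ≤ -14 := by
    intro y hy h1
    obtain ⟨a1, a2⟩ := cross D.hr Nat.prime_three hx (hc y hy)
      (fun h => absurd (h.trans (ho y hy)) (by norm_num))
    have a3 := r_mod D.hr p13 (orderOf_dvd_iff_pow_eq_one.1 (ho y hy))
    have a4 := abs_lt_dg D.hr hna (by rw [D.dχ]; norm_num) h1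
    rw [(D.sing _ a1).1] at a2
    rw [D.dχ] at a3 a4
    unfold Int.ModEq at a2 a3
    omega
  have all : ∀ y ∈ R, y ≠ 1 → D.r y = 25 := by
    intro y hy h1
    refine (val y hy h1).resolve_right fun h2 => ?_
    obtain ⟨k, hk, hk'⟩ := (Nat.dvd_prime_pow p13).1 (ho y hy)
    interval_cases k
    · exact h1 (orderOf_eq_one_iff.1 hk')
    · have := prime_le D.hr p13 hk'
      rw [D.dχ] at this
      omega
    · have := cyc_le D.hr y (fun i => if 13 ∣ i then 64 else -14) (fun i _ => by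
        split_ifs with h
        · have := abs_le_dg D.hr (y ^ i)
          rw [D.dχ] at this
          exact (le_abs_self _).trans this
        · rw [r_pow D.hr (hk' ▸ Nat.Coprime.pow_right 2 ((p13.coprime_iff_not_dvd).2 h).symm)]
          exact h2)
      rw [hk'] at this
      exact absurd this (by decide +kernel)
  haveI := Fintype.ofFinite R
  obtain ⟨k, hk⟩ := sub_sum D.hr R
  rw [← Finset.add_sum_erase _ _ (Finset.mem_univ (1 : R)), Finset.sum_congr rfl (g := fun _ => 25)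
    (fun (y : R) hy => all y y.2 fun h => Finset.ne_of_mem_erase hy (Subtype.ext h)), Finset.sum_const,
    Finset.card_erase_of_mem (Finset.mem_univ _), Finset.card_univ, ← Nat.card_eq_fintype_card,
    hR, OneMemClass.coe_one, r_one D.hr, D.dχ] at hk
  norm_num at hk
  omega

omit hna D [IsSimpleGroup G] in
theorem exists_three {c : G} (hc : 3 ∣ orderOf c) : ∃ x : G, orderOf x = 3 ∧
    ∀ y ∈ Subgroup.centralizer ({c} : Set G), Commute x y :=
  ⟨c ^ (orderOf c / 3), orderOf_pow_orderOf_div (orderOf_pos c).ne' hc, fun _ hy =>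
    Commute.pow_left (Subgroup.mem_centralizer_singleton_iff.1 hy).symm _⟩

theorem not_cube : ¬ 13 ^ 3 ∣ Nat.card G := by
  intro h
  haveI : Fact (Nat.Prime 13) := ⟨by norm_num⟩
  refine count169 hna D ((dvd_pow_self 13 (by norm_num)).trans h) fun c hc => ?_
  obtain ⟨x, hx, hxc⟩ := exists_three hc
  have h1 : ¬ 13 ^ 2 ∣ Nat.card (Subgroup.centralizer ({c} : Set G)) := fun h1 => by
    obtain ⟨R, hR⟩ := Sylow.exists_subgroup_card_pow_prime 13 h1
    refine no169 hna D hx (R.map (Subgroup.subtype _)) (by rw [Subgroup.card_subtype, hR]) ?_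
    rintro _ ⟨y, -, rfl⟩
    exact hxc y y.2
  rw [← (Subgroup.centralizer ({c} : Set G)).card_mul_index] at h
  obtain ⟨u, v, d1, d2, huv⟩ := (Nat.dvd_mul).1 h
  obtain ⟨k, hk, rfl⟩ := (Nat.dvd_prime_pow Fact.out).1 (Dvd.intro _ huv)
  refine Dvd.dvd.trans ?_ d2
  interval_cases k
  · omega
  · omega
  · exact absurd d1 h1
  · exact absurd (Dvd.dvd.trans (by norm_num) d1) h1

theorem thirteen {a b : ℕ} (hG : Nat.card G = 2 ^ a * 3 * 5 * 13 ^ b) : False := by
  classical
  haveI : Fact (Nat.Prime 5) := ⟨by norm_num⟩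
  have p13 : Nat.Prime 13 := by norm_num
  have hb : b ≤ 2 := by
    by_contra hb
    exact not_cube hna D (hG ▸ Dvd.dvd.mul_left (pow_dvd_pow 13 (by omega)) _)
  have hG' : Nat.card G = 5 * (2 ^ a * (3 * 13 ^ b)) := by rw [hG]; ring
  have hm : 2 ^ a * (3 * 13 ^ b) ∣ 2 ^ a * 507 :=
    Nat.mul_dvd_mul_left _ (Nat.mul_dvd_mul_left 3 (pow_dvd_pow 13 hb))
  have h5 : ¬ 5 ∣ 2 ^ a * (3 * 13 ^ b) := fun h => absurd (odd_dvd (by decide) (h.trans hm))
    (by norm_num)
  have h9 : ¬ 3 ^ 2 ∣ Nat.card G := fun h => by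
    rw [hG'] at h
    exact absurd (odd_dvd (by decide) (((by norm_num : Nat.Coprime (3 ^ 2) 5).dvd_of_dvd_mul_left
      h).trans hm)) (by norm_num)
  have h13 : 13 ∣ Nat.card G := Dvd.dvd.trans (by rw [D.dψ]; norm_num) (dg_dvd D.ψ)
  obtain ⟨P, e, he, hd, ⟨B⟩, -⟩ := exists_e hna 5 hG' h5
  have hχ : D.χ ∈ B.X ∨ D.χ ∈ B.Y := B.mem_of_const (z := -1) (by norm_num) fun g hg => by
    have h1 := van_of_dvd Fact.out B.not_sq_dvd (χ := D.ψ) (by rw [D.dψ]; norm_num) hg
    rw [D.hs] at h1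
    have h2 : D.s g = 0 := by exact_mod_cast h1
    have h3 : D.r g = -1 := by
      by_cases h : 3 ∣ orderOf g
      · have := D.sing g h; omega
      · have := D.reg g h; omega
    rw [D.hr, h3]; norm_num
  have he' : e = 2 ∨ e = 5 - 1 := by
    have := Nat.le_of_dvd (by norm_num) hd
    interval_cases e <;> omega
  rcases he' with rfl | he'
  · obtain ⟨d, h1, h2⟩ := two_deg hna B (by norm_num) hχ (by rw [D.dχ]; norm_num)
      (by rw [D.dχ]; norm_num)
    rw [D.dχ] at h2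
    exact h9 (Dvd.dvd.trans (by omega) h1)
  obtain ⟨Z, s, hZ, h1, hmem, hs, -, hrel⟩ := B.full he'
  have hne : D.χ ≠ triv G := fun h => by have := D.dχ; rw [h, dg_triv] at this; omega
  have h2 : D.χ ∈ Z.erase (triv G) := Finset.mem_erase.2 ⟨hne, (hmem _).2 hχ⟩
  obtain ⟨x, y, z, hxy, hxz, hyz, hE⟩ := Finset.card_eq_three.1
    (show ((Z.erase (triv G)).erase D.χ).card = 3 by
      rw [Finset.card_erase_of_mem h2, Finset.card_erase_of_mem h1, hZ])
  have fact : ∀ φ ∈ ({x, y, z} : Finset (IrrCharacter G)), φ ∈ Z ∧ dg φ ∣ 2 ^ a * 507 ∧ 2 ≤ dg φ ∧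
      (dg φ % 5 = 1 ∨ dg φ % 5 = 4) ∧ s φ * dg φ = sgd (dg φ) := by
    intro φ hφ
    rw [← hE] at hφ
    have a1 := Finset.mem_erase.1 (Finset.mem_of_mem_erase hφ)
    have a2 : dg φ ≠ 1 := fun h => a1.1 (eq_triv_of_dg hna h)
    have a3 := dg_pos φ
    have a4 := hs φ a1.2
    refine ⟨a1.2, (B.dvd_cof hG' ((hmem φ).1 a1.2)).trans hm, by omega, by omega, ?_⟩
    unfold sgd
    rcases a4 with ⟨h, h'⟩ | ⟨h, h'⟩
    · rw [h, if_pos h', one_mul]
    · rw [h, if_neg (by omega), neg_one_mul]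
  obtain ⟨x1, x2, x3, x4, x5⟩ := fact x (by simp)
  obtain ⟨y1, y2, y3, y4, y5⟩ := fact y (by simp)
  obtain ⟨z1, z2, z3, z4, z5⟩ := fact z (by simp)
  have h0 := hrel 1 (by simp)
  rw [← Finset.add_sum_erase _ _ h1, ← Finset.add_sum_erase _ _ h2, hE,
    Finset.sum_insert (by simp [hxy, hxz]), Finset.sum_pair hyz] at h0
  simp only [dg_cast] at h0
  have h0' : s (triv G) * dg (triv G) + (s D.χ * dg D.χ + (s x * dg x + (s y * dg y + s z * dg z)))
      = 0 := by exact_mod_cast h0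
  have st : s (triv G) = 1 := by have := hs _ h1; rw [dg_triv] at this; omega
  have sc : s D.χ = -1 := by have := hs _ (Finset.mem_of_mem_erase h2); rw [D.dχ] at this; omega
  rw [st, sc, dg_triv, D.dχ, x5, y5, z5] at h0'
  have uniq : ∀ d, d ≠ 1 → d ≠ 64 → [dg x, dg y, dg z].count d = 1 →
      ∃ (φ : IrrCharacter G) (r : G → ℤ), dg φ = d ∧ ∀ g, (φ : G → ℂ) g = r g := by
    intro d d1 d2 hc
    have all : ∀ φ, φ ∈ B.X ∨ φ ∈ B.Y → dg φ = d → φ = x ∨ φ = y ∨ φ = z := by
      intro φ hφ hd'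
      have : φ ∈ (Z.erase (triv G)).erase D.χ := Finset.mem_erase.2 ⟨fun h => d2 (by
        rw [← hd', h, D.dχ]), Finset.mem_erase.2 ⟨fun h => d1 (by rw [← hd', h, dg_triv]),
          (hmem φ).2 hφ⟩⟩
      rw [hE] at this
      simpa using this
    have fin : ∀ φ ∈ Z, dg φ = d → (∀ ψ, ψ = x ∨ ψ = y ∨ ψ = z → dg ψ = d → ψ = φ) →
        ∃ (φ : IrrCharacter G) (r : G → ℤ), dg φ = d ∧ ∀ g, (φ : G → ℂ) g = r g := by
      intro φ hφ hd' hu
      choose r hr using B.int_of_unique ((hmem φ).1 hφ)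
        (fun ψ hψ h => hu ψ (all ψ hψ (h.trans hd')) (h.trans hd'))
      exact ⟨φ, r, hd', hr⟩
    simp only [List.count_cons, List.count_nil, beq_iff_eq] at hc
    by_cases c1 : dg x = d <;> by_cases c2 : dg y = d <;> by_cases c3 : dg z = d <;>
      simp only [c1, c2, c3, if_true, if_false] at hc <;> try omega
    · exact fin x x1 c1 (by rintro ψ (rfl | rfl | rfl) h <;> simp_all)
    · exact fin y y1 c2 (by rintro ψ (rfl | rfl | rfl) h <;> simp_all)
    · exact fin z z1 c3 (by rintro ψ (rfl | rfl | rfl) h <;> simp_all)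
  rcases five x2 y2 z2 x3 y3 z3 x4 y4 z4 (by omega) with h6 | ⟨h24, h169⟩
  · obtain ⟨φ, r, hd', hr⟩ := uniq 6 (by norm_num) (by norm_num) h6
    have := schur_le hr (by omega) p13 (by omega)
    have := p13.factorization_pos_of_dvd Nat.card_pos.ne' h13
    omega
  · obtain ⟨φ, r, hd', hr⟩ := uniq 24 (by norm_num) (by norm_num) h24
    have h169' : 13 ^ 2 ∣ Nat.card G := by
      simp only [List.mem_cons, List.not_mem_nil, or_false] at h169
      rcases h169 with h | h | h <;> exact (show 13 ^ 2 = 169 by norm_num) ▸ h ▸ dg_dvd _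
    refine count169 hna D h13 fun c hc => ?_
    by_contra hc'
    have h1 : 13 ∣ Nat.card (Subgroup.centralizer ({c} : Set G)) := by
      by_contra h
      rw [← (Subgroup.centralizer ({c} : Set G)).card_mul_index] at h169'
      exact hc' ((Nat.Coprime.pow_left 2 ((p13.coprime_iff_not_dvd).2 h)).dvd_of_dvd_mul_left h169')
    haveI : Fact (Nat.Prime 13) := ⟨p13⟩
    obtain ⟨w, hw⟩ := exists_prime_orderOf_dvd_card' 13 h1
    rw [← Subgroup.orderOf_coe] at hw
    obtain ⟨t, ht, htc⟩ := exists_three hc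
    obtain ⟨a1, a2⟩ := cross hr Nat.prime_three ht (htc w w.2) (by rw [hw]; norm_num)
    have a3 := van_of_dvd Nat.prime_three h9 (χ := φ) (by omega) a1
    rw [hr] at a3
    have a4 : r (t * w) = 0 := by exact_mod_cast a3
    have a5 := r_mod hr (k := 1) p13 (g := w) (by rw [pow_one, ← hw, pow_orderOf_eq_one])
    have a6 := prime_le hr p13 hw
    have a7 := abs_lt_dg hr hna (by omega) (g := w) (fun h => by rw [h, orderOf_one] at hw; omega)
    rw [a4] at a2
    rw [hd'] at a5 a6 a7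
    unfold Int.ModEq at a2 a5
    omega

end H23.Q15
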