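import Mathlib
import Cfsg.Agent.Lib.Q15.Thirteen
import Cfsg.Agent.Lib.GL.Basic
import Cfsg.Agent.S0997
import Cfsg.Agent.S0999

/-! Simple groups of order `2 ^ a * 15 * q ^ b` with `7 ≤ q` and `1 ≤ b`. -/

set_option autoImplicit false

open Cfsg H17.Ord

namespace H23.Q15

variable {G : Type*} [Group G] [Finite G] [IsSimpleGroup G] (hna : ∃ a b : G, a * b ≠ b * a)
include hna

theorem not_cyc : ¬ IsCyclic G := fun h => by
  obtain ⟨a, b, hab⟩ := hna
  exact hab (IsCyclic.isMulCommutative.is_comm.comm a b)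

omit hna [IsSimpleGroup G] in
theorem card_L2 {F : Type} [Field F] [Fintype F]
    (e : G ≃* Matrix.ProjectiveSpecialLinearGroup (Fin 2) F) {q : ℕ} (hF : Fintype.card F = q) :
    Nat.gcd 2 (q - 1) * Nat.card G = q * (q - 1) * (q + 1) := by
  have := H10.card_PSL_two (F := F)
  rwa [Nat.card_eq_fintype_card (α := F), hF, ← Nat.card_congr e.toEquiv] at this

theorem big {a q : ℕ} (hq : q.Prime) (h17 : 17 ≤ q) (hG : Nat.card G = 2 ^ a * 3 * 5 * q) :
    ∃ (F : Type) (_ : Field F) (_ : Fintype F), (Fintype.card F = 16 ∨ Fintype.card F = 31) ∧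
      Nonempty (G ≃* Matrix.ProjectiveSpecialLinearGroup (Fin 2) F) := by
  have pw : ∀ m, 16 ≤ 2 ^ m → ∃ t, 2 ^ m = 16 * t ∧ (t = 1 ∨ t % 2 = 0) := by
    intro m hm
    obtain ⟨k, rfl⟩ : ∃ k, m = 4 + k := ⟨m - 4, by
      have := (Nat.pow_le_pow_iff_right (by norm_num : 1 < 2)).1 (show 2 ^ 4 ≤ 2 ^ m from hm)
      omega⟩
    refine ⟨2 ^ k, by ring, ?_⟩
    rcases k with _ | k
    · simp
    · right; rw [pow_succ]; omega
  rcases Cfsg.Agent.S0997.result (not_cyc hna) q 2 a 15 hq Nat.prime_two (by omega)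
    (by rw [hG]; ring) (by omega) with ⟨m, F, _, _, hF, hm, ⟨e⟩⟩ | ⟨m, F, _, _, hF, hm, -, ⟨e⟩⟩
  · refine ⟨F, inferInstance, inferInstance, Or.inr (hF.trans ?_), ⟨e⟩⟩
    have h := card_L2 e hF
    have ho := Nat.odd_iff.1 (hq.odd_of_ne_two (by omega))
    rw [Nat.gcd_eq_left (by omega), hG] at h
    have h1 : 2 ^ (a + 1) * 15 = (q - 1) * (q + 1) :=
      Nat.eq_of_mul_eq_mul_left hq.pos (by rw [← mul_assoc q (q - 1), ← h]; ring)
    obtain ⟨t, ht, ht'⟩ := pw m (by omega)
    rcases hm with hm | hm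
    · have : 8 * t + 1 ∣ 15 := odd_dvd (Nat.odd_iff.2 (by omega))
        (i := a + 1) (by rw [h1]; exact Dvd.dvd.mul_left ⟨2, by omega⟩ _)
      have h2 := Nat.le_of_dvd (by norm_num) this
      have : t = 1 := by omega
      subst this; omega
    · have : 8 * t - 1 ∣ 15 := odd_dvd (Nat.odd_iff.2 (by omega))
        (i := a + 1) (by rw [h1]; exact Dvd.dvd.mul_right ⟨2, by omega⟩ _)
      have h2 := Nat.le_of_dvd (by norm_num) this
      omega
  · refine ⟨F, inferInstance, inferInstance, Or.inl (hF.trans ?_), ⟨e⟩⟩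
    have h := card_L2 e hF
    obtain ⟨t, ht, -⟩ := pw m (by omega)
    rw [show Nat.gcd 2 (2 ^ m - 1) = 1 from
      Nat.coprime_two_left.2 (Nat.odd_iff.2 (by omega)), hG, ← hm, one_mul] at h
    have h1 := Nat.eq_of_mul_eq_mul_right hq.pos h
    have : 2 ^ m - 1 ∣ 15 := odd_dvd (i := a) (Nat.odd_iff.2 (by omega))
      ⟨2 ^ m, by rw [mul_comm _ (2 ^ m), ← h1]; ring⟩
    have h2 := Nat.le_of_dvd (by norm_num) this
    omega

theorem seven (D : Pair G 7) {a : ℕ} (hG : Nat.card G = 2 ^ a * 3 * 5 * 7) : False := by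
  haveI : Fact (Nat.Prime 7) := ⟨by norm_num⟩
  have hG' : Nat.card G = 7 * (2 ^ a * 15) := by rw [hG]; ring
  obtain ⟨P, e, he, hd, ⟨B⟩, hm⟩ := exists_e hna 7 hG'
    (fun h => absurd (odd_dvd (by decide) h) (by norm_num))
  have h1 := hm (selfcent_deg hna B D.hr D.dχ)
  have h2 : 2 ^ a % 7 = 1 ∨ 2 ^ a % 7 = 2 ∨ 2 ^ a % 7 = 4 := by
    clear hG hG' hm h1
    induction a with
    | zero => simp
    | succ a ih => rw [pow_succ]; omega
  have he2 : e = 2 := by
    have := Nat.le_of_dvd (by norm_num) hd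
    interval_cases e <;> omega
  subst he2
  have hψ : D.ψ ∈ B.X ∨ D.ψ ∈ B.Y := B.mem_of_const (z := 1) (by norm_num) fun g hg => by
    have h1 := van_of_dvd Fact.out B.not_sq_dvd (χ := D.χ) (by rw [D.dχ]) hg
    rw [D.hr] at h1
    have h2 : D.r g = 0 := by exact_mod_cast h1
    have h3 : D.s g = 1 := by
      by_cases h : 3 ∣ orderOf g
      · have := D.sing g h; omega
      · have := D.reg g h; omega
    rw [D.hs, h3]; norm_num
  obtain ⟨d, h3, h4⟩ := two_deg hna B (by norm_num) hψ (by rw [D.dψ]; norm_num)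
    (by rw [D.dψ]; norm_num)
  rw [D.dψ] at h4
  obtain rfl : d = 9 := by omega
  rw [show Nat.card G = 2 ^ a * 105 by rw [hG]; ring] at h3
  exact absurd (odd_dvd (by decide) h3) (by norm_num)

theorem eleven (D : Pair G 10) {a : ℕ} (hG : Nat.card G = 2 ^ a * 3 * 5 * 11) :
    ∃ (F : Type) (_ : Field F) (_ : Fintype F), Fintype.card F = 11 ∧
      Nonempty (G ≃* Matrix.ProjectiveSpecialLinearGroup (Fin 2) F) := by
  haveI : Fact (Nat.Prime 11) := ⟨by norm_num⟩
  haveI : Fact (Nat.Prime 5) := ⟨by norm_num⟩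
  have h1 : dg D.χ ≠ 1 := by rw [D.dχ]; norm_num
  have hG0 : Nat.card G = 2 ^ a * 165 := by rw [hG]; ring
  have hG' : Nat.card G = 11 * (2 ^ a * 15) := by rw [hG]; ring
  obtain ⟨P, e, he, hd, ⟨B⟩, hm⟩ := exists_e hna 11 hG'
    (fun h => absurd (odd_dvd (by decide) h) (by norm_num))
  have h2 := hm (selfcent_deg hna B D.hs D.dψ)
  have v11 : ∀ g : G, 11 ∣ orderOf g → D.r g = -1 := fun g hg => by
    have h1 := van_of_dvd Fact.out B.not_sq_dvd (χ := D.ψ) (by rw [D.dψ]) hg
    rw [D.hs] at h1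
    have h2 : D.s g = 0 := by exact_mod_cast h1
    by_cases h : 3 ∣ orderOf g
    · have := D.sing g h; omega
    · have := D.reg g h; omega
  have hχ : D.χ ∈ B.X ∨ D.χ ∈ B.Y := B.mem_of_const (z := -1) (by norm_num) fun g hg => by
    rw [D.hr, v11 g hg]; norm_num
  have he2 : e ≠ 2 := by
    rintro rfl
    obtain ⟨d, h3, h4⟩ := two_deg hna B (by norm_num) hχ h1 (by rw [D.dχ]; norm_num)
    rw [D.dχ] at h4
    obtain rfl : d = 9 := by omega
    rw [hG0] at h3
    exact absurd (odd_dvd (by decide) h3) (by norm_num)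
  have ha : a ≤ 18 := by
    have h3 := schur D.hr h1 Nat.prime_two
    rw [D.dχ] at h3
    have h4 : a ≤ (Nat.card G).factorization 2 :=
      (Nat.prime_two.pow_dvd_iff_le_factorization Nat.card_pos.ne').1 ⟨_, hG0⟩
    exact h4.trans (h3.trans (by decide +kernel))
  have he' : e = 5 ∨ e = 10 := by
    have := Nat.le_of_dvd (by norm_num) hd
    interval_cases e <;> omega
  have ha' : a ≤ 3 ∨ a = 12 ∨ a = 13 := by interval_cases a <;> omega
  rcases ha' with ha' | ha'
  · have h3 : 2 ^ a ≤ 2 ^ 3 := Nat.pow_le_pow_right (by norm_num) ha'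
    rcases Cfsg.Agent.S0999.result (not_cyc hna) 11 Fact.out ⟨_, hG'⟩ (by omega) with
      ⟨F, _, _, hF, -, e⟩ | ⟨m, F, _, _, -, hm, -, -⟩
    · exact ⟨F, inferInstance, inferInstance, hF, e⟩
    · exact absurd (odd_dvd (u := 5) (i := m) (m := 1) (by decide) ⟨2, by omega⟩) (by norm_num)
  exfalso
  have hG5 : Nat.card G = 5 * (2 ^ a * 33) := by rw [hG]; ring
  obtain ⟨Q, f, hf, hd', ⟨C⟩, hm'⟩ := exists_e hna 5 hG5
    (fun h => absurd (odd_dvd (by decide) h) (by norm_num))
  have h3 := hm' (selfcent C fun x z hx hc hz => by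
    by_contra hne
    have hz' : ¬ 5 ∣ orderOf z := fun h => hne ((Nat.prime_dvd_prime_iff_eq Fact.out hz).1 h).symm
    obtain ⟨a1, a2⟩ := cross D.hr Fact.out hx hc hz'
    have a3 := van_of_dvd Fact.out C.not_sq_dvd (χ := D.χ) (by rw [D.dχ]; norm_num) a1
    rw [D.hr] at a3
    have a4 : D.r (x * z) = 0 := by exact_mod_cast a3
    rw [a4] at a2
    unfold Int.ModEq at a2
    by_cases h2 : orderOf z = 2
    · obtain ⟨w, b1, b2, b3, b4⟩ := invol_val hna h1 h2
      rw [D.hr] at b1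
      have b5 : D.r z = w := by exact_mod_cast b1
      rw [D.dχ] at b2 b3 b4
      omega
    · have b1 : orderOf z ∣ 165 := odd_dvd (hz.odd_of_ne_two h2) (hG0 ▸ orderOf_dvd_natCard z)
      have b2 : ∀ d ∈ Nat.divisors 165, d = 1 ∨ 3 ∣ d ∨ 5 ∣ d ∨ 11 ∣ d := by decide +kernel
      rcases b2 _ (Nat.mem_divisors.2 ⟨b1, by norm_num⟩) with h | h | h | h
      · exact hz.one_lt.ne' h
      · have := D.sing z h; omega
      · exact hz' h
      · have := v11 z h; omega)
  have := Nat.le_of_dvd (by norm_num) hd'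
  rcases ha' with rfl | rfl <;> interval_cases f <;> omega

theorem large {a b q : ℕ} (hq : q.Prime) (h7 : 7 ≤ q) (hb : b ≠ 0)
    (hG : Nat.card G = 2 ^ a * 3 * 5 * q ^ b) :
    ∃ (F : Type) (_ : Field F) (_ : Fintype F),
      (Fintype.card F = 11 ∨ Fintype.card F = 16 ∨ Fintype.card F = 31) ∧
      Nonempty (G ≃* Matrix.ProjectiveSpecialLinearGroup (Fin 2) F) := by
  obtain ⟨n, ⟨D⟩, h1, h2⟩ := exists_pair hna (m := 2 ^ a * (5 * q ^ b)) (by rw [hG]; ring)
    (fun h => by
      rcases Nat.prime_three.dvd_mul.1 (odd_dvd (by decide) h) with h | h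
      · omega
      · have := (Nat.prime_dvd_prime_iff_eq Nat.prime_three hq).1 (Nat.prime_three.dvd_of_dvd_pow h)
        omega)
  have hn := D.two
  have hn3 := D.md
  have hb' : n < (q - 1) * q → b ≤ n / (q - 1) := fun h => by
    have := schur_le D.hr (by rw [D.dχ]; omega) hq (by rwa [D.dχ])
    rw [D.dχ] at this
    exact le_trans ((hq.pow_dvd_iff_le_factorization Nat.card_pos.ne').1
      (hG ▸ Dvd.intro_left _ rfl)) this
  have hqq : q < (q - 1) * q := by
    have : 2 * q ≤ (q - 1) * q := Nat.mul_le_mul_right q (by omega)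
    omega
  have hb1 : n ≤ q → b ≤ 1 := fun h => (hb' (by omega)).trans
    (Nat.lt_succ_iff.1 ((Nat.div_lt_iff_lt_mul (by omega)).2 (by omega)))
  have fin : n + 1 = q ∨ n = q → ∃ (F : Type) (_ : Field F) (_ : Fintype F),
      (Fintype.card F = 11 ∨ Fintype.card F = 16 ∨ Fintype.card F = 31) ∧
      Nonempty (G ≃* Matrix.ProjectiveSpecialLinearGroup (Fin 2) F) := fun h => by
    obtain rfl : b = 1 := by have := hb1 (by omega); omega
    rw [pow_one] at hG h2
    rcases Nat.lt_or_ge q 17 with h17 | h17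
    · have hq' : q = 7 ∨ q = 11 ∨ q = 13 := by
        interval_cases q <;> first | omega | exact absurd hq (by decide)
      rcases hq' with rfl | rfl | rfl
      · obtain rfl : n = 7 := by omega
        exact (seven hna D hG).elim
      · obtain rfl : n = 10 := by omega
        obtain ⟨F, _, _, hF, e⟩ := eleven hna D hG
        exact ⟨F, inferInstance, inferInstance, Or.inl hF, e⟩
      · obtain rfl : n = 13 := by omega
        exact absurd (odd_dvd (u := 7) (by decide) (Dvd.dvd.trans (by norm_num) h2)) (by norm_num)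
    · obtain ⟨F, _, _, hF, e⟩ := big hna hq h17 hG
      exact ⟨F, inferInstance, inferInstance, Or.inr hF, e⟩
  rcases dio hq h7 hn hn3 h1 h2 with rfl | h | h | ⟨rfl, rfl⟩
  · have := hb' (by omega)
    rw [Nat.div_eq_of_lt (by omega)] at this
    omega
  · exact fin (Or.inl h)
  · exact fin (Or.inr h)
  · exact (thirteen hna D hG).elim

end H23.Q15
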