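import Mathlib
import Cfsg.Agent.Lib.Q15.Small
import Cfsg.Agent.S0904
import Cfsg.Agent.S3331
import Cfsg.Agent.S0253
import Cfsg.Agent.S0254
import Cfsg.Agent.S0822
import Cfsg.Agent.S0243
import Cfsg.Agent.S0280

/-! Simple groups of order `2 ^ a * 15 * q ^ b`, given those of order `5 * 3 ^ a * 2 ^ b`. -/

set_option autoImplicit false

open Cfsg

namespace H23.Q15

variable {G : Type*} [Group G] [Finite G] [IsSimpleGroup G]

/-- the classification of the simple groups of order `5 * 3 ^ a * 2 ^ b` -/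
def K3 (G : Type*) [Group G] : Prop := Nonempty (G ≃* alternatingGroup (Fin 5)) ∨ Nonempty (G ≃* alternatingGroup (Fin 6)) ∨ (∃ (F : Type) (_ : Field F) (_ : Fintype F), Fintype.card F = 3 ∧ Nonempty (G ≃* Cfsg.PSp 2 F)) ∨ (∃ (F : Type) (_ : Field F) (_ : Fintype F), (Fintype.card F = 7 ∨ Fintype.card F = 8 ∨ Fintype.card F = 17) ∧ Nonempty (G ≃* Matrix.ProjectiveSpecialLinearGroup (Fin 2) F)) ∨ (∃ (F : Type) (_ : Field F) (_ : Fintype F), Fintype.card F = 9 ∧ Nonempty (G ≃* Cfsg.PSU 3 F 3)) ∨ (∃ (F : Type) (_ : Field F) (_ : Fintype F), Fintype.card F = 3 ∧ Nonempty (G ≃* Matrix.ProjectiveSpecialLinearGroup (Fin 3) F))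

/-- the conclusion -/
def Concl (G : Type*) [Group G] : Prop :=
    (∃ (F : Type) (_ : Field F) (_ : Fintype F),
        (Fintype.card F = 5 ∨ Fintype.card F = 9 ∨ Fintype.card F = 11 ∨ Fintype.card F = 16 ∨ Fintype.card F = 31) ∧
          Nonempty (G ≃* Matrix.ProjectiveSpecialLinearGroup (Fin 2) F)) ∨
      (∃ (F : Type) (_ : Field F) (_ : Fintype F), Fintype.card F = 4 ∧ Nonempty (G ≃* Cfsg.PSU 4 F 2))

omit [Finite G] [IsSimpleGroup G] in
theorem of_A5 (e : G ≃* alternatingGroup (Fin 5)) : Concl G := by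
  haveI : Fact (Nat.Prime 5) := ⟨by norm_num⟩
  obtain ⟨f⟩ := Cfsg.Agent.S0253.result (F := ZMod 5) (by simp)
  exact Or.inl ⟨ZMod 5, inferInstance, inferInstance, Or.inl (by simp), ⟨e.trans f.symm⟩⟩

theorem exists_field (p k : ℕ) [Fact p.Prime] (hk : k ≠ 0) :
    ∃ (F : Type) (_ : Field F) (_ : Fintype F), Fintype.card F = p ^ k := by
  haveI := Fintype.ofFinite (GaloisField p k)
  exact ⟨GaloisField p k, inferInstance, inferInstance,
    by rw [← Nat.card_eq_fintype_card, GaloisField.card p k hk]⟩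

omit [IsSimpleGroup G] in
theorem of_K3 (h5 : 5 ∣ Nat.card G) (h : K3 G) : Concl G := by
  rcases h with
    ⟨⟨e⟩⟩ | ⟨⟨e⟩⟩ | ⟨K, _, _, hK, ⟨e⟩⟩ | ⟨F, _, _, hF, ⟨e⟩⟩ | ⟨F, _, _, hF, ⟨e⟩⟩ | ⟨F, _, _, hF, ⟨e⟩⟩
  · exact of_A5 e
  · obtain ⟨F, _, _, hF⟩ := exists_field 3 2 (by norm_num)
    obtain ⟨f⟩ := Cfsg.Agent.S0254.result (F := F) hF
    exact Or.inl ⟨F, inferInstance, inferInstance, Or.inr (Or.inl hF), ⟨e.trans f.symm⟩⟩
  · obtain ⟨F, _, _, hF⟩ := exists_field 2 2 (by norm_num)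
    obtain ⟨f⟩ := Cfsg.Agent.S0822.result (F := F) hF hK
    exact Or.inr ⟨F, inferInstance, inferInstance, hF, ⟨e.trans f.symm⟩⟩
  · exfalso
    rcases hF with hF | hF | hF <;> have := H23.Q15.card_L2 e hF <;> norm_num at this <;> omega
  · exfalso
    have := Cfsg.Agent.S0280.result (F := F) (q := 3) hF 3 (by norm_num)
    rw [← Nat.card_congr e.toEquiv] at this
    norm_num [Finset.prod_range_succ, Nat.even_iff] at this
    omega
  · exfalso
    have := Cfsg.Agent.S0243.result (F := F) hF 3 (by norm_num)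
    rw [← Nat.card_congr e.toEquiv] at this
    norm_num [Fin.prod_univ_three] at this
    omega

theorem of_five (hna : ∃ a b : G, a * b ≠ b * a) {a b : ℕ} (hG : Nat.card G = 2 ^ a * 5 ^ (b + 1) * 3) :
    Concl G := by
  haveI : Fact (Nat.Prime 3) := ⟨Nat.prime_three⟩
  have h5 : 5 ∣ Nat.card G := ⟨2 ^ a * 5 ^ b * 3, by rw [hG]; ring⟩
  have h3 : 3 ∣ Nat.card G := ⟨2 ^ a * 5 ^ (b + 1), by rw [hG]; ring⟩
  obtain ⟨P, hP⟩ := H17.Ord.exists_subgroup_prime (G := G) 3 h3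
  have hi : ¬ 3 ∣ P.index := fun h => by
    have h1 := P.card_mul_index
    rw [hP, hG] at h1
    rw [show P.index = 2 ^ a * 5 ^ (b + 1) by omega] at h
    exact absurd (Nat.prime_three.dvd_of_dvd_pow (H23.Q15.odd_dvd (by decide) h)) (by norm_num)
  obtain ⟨S, hS⟩ := H17.Ord.exists_sylow_eq hP hi
  have hC := Cfsg.Agent.S0904.result 2 5 3 a (b + 1) Nat.prime_two (by norm_num) (by norm_num)
    (by norm_num) (by norm_num) hG S
  have hC' : Subgroup.centralizer (P : Set G) = P := by rw [← hS]; exact hC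
  rcases Cfsg.Agent.S3331.result P hP hC' with ⟨N, hN, -, h1, h2⟩ | ⟨N, hN, h1, -, ⟨e⟩⟩ | ⟨⟨e⟩⟩
  · exfalso
    rcases hN.eq_bot_or_eq_top with rfl | rfl
    · have h4 := Nat.card_congr (QuotientGroup.quotientBot (G := G)).toEquiv
      rcases h2 with h2 | ⟨⟨e⟩⟩
      · omega
      · have := Nat.card_congr e.toEquiv
        rw [Nat.card_perm, Nat.card_fin, h4] at this
        rw [this] at h5
        exact absurd h5 (by decide)
    · rw [Subgroup.card_top] at h1
      exact absurd (Nat.Coprime.eq_one_of_dvd h1.symm h3) (by norm_num)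
  · rcases hN.eq_bot_or_eq_top with rfl | rfl
    · exact of_A5 (QuotientGroup.quotientBot.symm.trans e)
    · obtain ⟨x, y, hxy⟩ := hna
      exact absurd (congrArg Subtype.val (h1.is_comm.comm ⟨x, trivial⟩ ⟨y, trivial⟩)) hxy
  · haveI : Fact (Nat.Prime 7) := ⟨by norm_num⟩
    have := H23.Q15.card_L2 e (q := 7) (by simp)
    norm_num at this
    omega

theorem final (hK : ¬ IsMulCommutative G → ∀ p a b : ℕ, p.Prime → Nat.card G = p * 3 ^ a * 2 ^ b → K3 G)
    (a b q : ℕ) (hq : q.Prime) (hG : Nat.card G = 2 ^ a * 3 * 5 * q ^ b) : Concl G := by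
  have hna : ∃ x y : G, x * y ≠ y * x := H17.Ord.noncomm_of_not_prime fun h => by
    have h3 := (Nat.prime_dvd_prime_iff_eq Nat.prime_three h).1 ⟨2 ^ a * 5 * q ^ b, by rw [hG]; ring⟩
    have h5 := (Nat.prime_dvd_prime_iff_eq Nat.prime_five h).1 ⟨2 ^ a * 3 * q ^ b, by rw [hG]; ring⟩
    omega
  have of_235 : ∀ {a b : ℕ}, Nat.card G = 5 * 3 ^ a * 2 ^ b → Concl G := fun {a b} h =>
    of_K3 ⟨3 ^ a * 2 ^ b, by rw [h, mul_assoc]⟩ (hK (fun h => by
      obtain ⟨x, y, hxy⟩ := hna; exact hxy (h.is_comm.comm x y)) 5 a b Nat.prime_five h)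
  rcases b with _ | b
  · exact of_235 (a := 1) (b := a) (by rw [hG]; ring)
  rcases Nat.lt_or_ge q 7 with h7 | h7
  · have hq' : q = 2 ∨ q = 3 ∨ q = 5 := by
      interval_cases q <;> first | omega | exact absurd hq (by decide)
    rcases hq' with rfl | rfl | rfl
    · exact of_235 (a := 1) (b := a + (b + 1)) (by rw [hG]; ring)
    · exact of_235 (a := b + 2) (b := a) (by rw [hG]; ring)
    · exact of_five hna (a := a) (b := b + 1) (by rw [hG]; ring)
  · obtain ⟨F, _, _, hF, e⟩ := H23.Q15.large hna hq h7 (by omega) hG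
    exact Or.inl ⟨F, inferInstance, inferInstance, Or.inr (Or.inr hF), e⟩

end H23.Q15
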